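import Cfsg.Agent.Lib.Fischer3T98.Exist22
import Cfsg.Agent.Lib.M23Struct19.Quot
import Cfsg.Agent.Lib.M22Struct66.Main
import Cfsg.Agent.S0283

/-!
# A transposition centraliser of a group isomorphic to the presented `Fi₂₂`

Supplies, for a group isomorphic to the presented `Fi₂₂`, the hypotheses of the recognition of type M(23)
from a transposition centraliser.
-/

set_option autoImplicit false

namespace Cfsg.Agent.Lib.Fischer3T50

open Cfsg Cfsg.Agent.Lib.CosetTable Cfsg.Agent.S0471
open Cfsg.Agent.Lib.Fischer3T98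

universe u v

/-- A non-split double cover of a simple non-commutative group is quasisimple. -/
theorem quasisimple_of_double {H : Type u} {P : Type v} [Group H] [Finite H] [Group P] [IsSimpleGroup P]
    (hP : ¬ IsMulCommutative P) (h : IsNonsplitDoubleCover H P) :
    IsQuasisimple H := by
  obtain ⟨hZ, ⟨e⟩, hns⟩ := h
  refine ⟨⟨?_⟩, e.isSimpleGroup⟩
  set f : H →* P := e.toMonoidHom.comp (QuotientGroup.mk' (Subgroup.center H)) with hf
  have hsur : Function.Surjective f := e.surjective.comp (QuotientGroup.mk'_surjective _)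
  have hker : ∀ x : H, f x = 1 ↔ x ∈ Subgroup.center H := fun x => by
    rw [hf, MonoidHom.comp_apply, MulEquiv.coe_toMonoidHom, map_eq_one_iff e e.injective,
      QuotientGroup.mk'_apply, QuotientGroup.eq_one_iff]
  have hmap : (commutator H).map f = ⊤ := by
    rw [commutator_def, Subgroup.map_commutator, Subgroup.map_top_of_surjective f hsur, ← commutator_def]
    rcases (inferInstance : IsSimpleGroup P).eq_bot_or_eq_top_of_normal (commutator P) inferInstance with h0 | h0
    · exfalso
      exact hP ⟨⟨fun a b => by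
        have := Subgroup.commutator_mem_commutator (Subgroup.mem_top a) (Subgroup.mem_top b)
        rw [← commutator_def, h0, Subgroup.mem_bot] at this
        exact commutatorElement_eq_one_iff_mul_comm.1 this⟩⟩
    · exact h0
  have hsplit : ∀ x : H, ∃ c ∈ commutator H, x * c⁻¹ ∈ Subgroup.center H := fun x => by
    obtain ⟨c, hc, hcx⟩ := (hmap ▸ Subgroup.mem_top (f x) : f x ∈ (commutator H).map f)
    exact ⟨c, hc, (hker _).1 (by rw [map_mul, map_inv, hcx, mul_inv_cancel])⟩
  by_contra hne
  have hdisj : Subgroup.center H ⊓ commutator H = ⊥ := by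
    rw [Subgroup.eq_bot_iff_forall]
    intro z ⟨hz, hzc⟩
    by_contra hz1
    refine hne (Subgroup.eq_top_iff' _ |>.2 fun x => ?_)
    obtain ⟨c, hc, hxc⟩ := hsplit x
    have hzall : ∀ w ∈ Subgroup.center H, w = 1 ∨ w = z := by
      intro w hw
      by_contra! hw2
      haveI := Fintype.ofFinite (Subgroup.center H)
      have hlt : 2 < Fintype.card (Subgroup.center H) :=
        Fintype.two_lt_card_iff.2 ⟨1, ⟨z, hz⟩, ⟨w, hw⟩, fun e0 => hz1 (congrArg Subtype.val e0).symm,
          fun e0 => hw2.1 (congrArg Subtype.val e0).symm, fun e0 => hw2.2 (congrArg Subtype.val e0).symm⟩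
      rw [← Nat.card_eq_fintype_card, hZ] at hlt
      exact lt_irrefl _ hlt
    have : x = (x * c⁻¹) * c := by group
    rw [this]
    refine mul_mem ?_ hc
    rcases hzall _ hxc with h' | h' <;> rw [h']
    exacts [one_mem _, hzc]
  refine hns (commutator H) (Subgroup.isComplement'_of_disjoint_and_mul_eq_univ (disjoint_iff.2 hdisj) ?_)
  refine Set.eq_univ_of_forall fun x => ?_
  obtain ⟨c, hc, hxc⟩ := hsplit x
  exact ⟨_, hxc, c, hc, by group⟩

/-- Centralisers under an isomorphism. -/
noncomputable def centCongr {A : Type u} {B : Type v} [Group A] [Group B] (e : A ≃* B) (a : A) (b : B)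
    (h : e a = b) : ↥(Subgroup.centralizer ({a} : Set A)) ≃* ↥(Subgroup.centralizer ({b} : Set B)) :=
  ((Subgroup.centralizer ({a} : Set A)).equivMapOfInjective e.toMonoidHom e.injective).trans
    (MulEquiv.subgroupCongr (by
      ext y
      rw [Subgroup.mem_map, Subgroup.mem_centralizer_singleton_iff]
      constructor
      · rintro ⟨x, hx, rfl⟩
        rw [← h]
        show e x * e a = e a * e x
        rw [← map_mul, ← map_mul, Subgroup.mem_centralizer_singleton_iff.1 hx]
      · intro hy
        refine ⟨e.symm y, Subgroup.mem_centralizer_singleton_iff.2 (e.injective ?_), e.apply_symm_apply y⟩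
        rw [map_mul, map_mul, e.apply_symm_apply, h]
        exact hy))

/-- A group isomorphic to the presented `Fi₂₂` is of type M(22) and has a transposition whose centraliser
is the double cover of `PSU₆(2)`. -/
theorem fi22_hyps {R : Type u} [Group R] (e₀ : Spor.IsoFi22 R) :
    (∃ E : Set R, IsThreeTranspositionClass E ∧ IsOfTypeM22 R E) ∧
    ∃ d : R, orderOf d = 2 ∧ IsQuasisimple (Subgroup.centralizer ({d} : Set R)) ∧
      (∃ (K : Type) (_ : Field K) (_ : Fintype K), Fintype.card K = 4 ∧
        ∃ _ : ((Subgroup.zpowers d).subgroupOf (Subgroup.centralizer ({d} : Set R))).Normal,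
          Nonempty ((Subgroup.centralizer ({d} : Set R)) ⧸
            (Subgroup.zpowers d).subgroupOf (Subgroup.centralizer ({d} : Set R)) ≃* PSU 6 K 2)) ∧
      ∃ g, g * d * g⁻¹ ∈ Subgroup.centralizer ({d} : Set R) ∧ g * d * g⁻¹ ≠ d := by
  obtain ⟨e⟩ := e₀
  haveI := Fi22.finite_fi22
  haveI : Finite R := Finite.of_equiv _ e.symm.toEquiv
  obtain ⟨M⟩ := Fi22.exists_act
  have hD := Fi22.isGroup
  have hF := M22Struct66.facts_of_m22 hD (Fi22.primitive M) (Fi22.isOfTypeM22 M)
  have hcl : aG ∈ Fi22.cls := mem_conjugatesOf_self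
  have hgrpR : IsThreeTranspositionClass (e.symm '' Fi22.cls) := by
    obtain ⟨⟨hinv, hthree⟩, -, hgen⟩ := Fi22.isClass M
    refine ⟨⟨?_, ?_⟩, ⟨e.symm aG, ⟨aG, hcl, rfl⟩, ?_⟩, ?_⟩
    · rintro _ ⟨x, hx, rfl⟩
      exact (orderOf_injective e.symm.toMonoidHom e.symm.injective x).trans (hinv x hx)
    · rintro _ ⟨x, hx, rfl⟩ _ ⟨y, hy, rfl⟩
      rw [← map_mul, ← map_pow, ← map_pow]
      exact (hthree x hx y hy).imp (fun h => by rw [h, map_one]) (fun h => by rw [h, map_one])
    · ext y
      constructor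
      · rintro ⟨x, hx, rfl⟩
        obtain ⟨g, rfl⟩ := isConj_iff.1 (show IsConj aG x from hx)
        exact isConj_iff.2 ⟨e.symm g, by rw [map_mul, map_mul, map_inv]⟩
      · intro hy
        obtain ⟨g, rfl⟩ := isConj_iff.1 (show IsConj (e.symm aG) y from hy)
        exact ⟨e g * aG * (e g)⁻¹, isConj_iff.2 ⟨e g, rfl⟩, by simp⟩
    · rw [show e.symm '' Fi22.cls = e.symm.toMonoidHom '' Fi22.cls from rfl, ← MonoidHom.map_closure, hgen,
        Subgroup.map_top_of_surjective _ e.symm.surjective]
  refine ⟨⟨_, hgrpR, M23Struct19.isOfTypeM22_congr e.symm (Fi22.isOfTypeM22 M)⟩, e.symm aG, ?_⟩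
  have hC : Subgroup.centralizer ({aG} : Set Spor.Fi22) = subH := by
    rw [hF.centralizer_eq _ hcl]
    exact Fi22.closure_nbr M
  have hdc : IsNonsplitDoubleCover subH (PSU 6 HeSp44.K4 2) :=
    exists_equiv M.hφ M.hinj (Fi22.card_subH M) (Fi22.a_mem M) (Fi22.a_ne M) (Fi22.comm_subH M)
  haveI : IsSimpleGroup (PSU 6 HeSp44.K4 2) :=
    S0283.result (ThreeTransp.PSUSix.card' HeSp44.K4.card_eq) 6 (by norm_num) (by norm_num)
  let E := (centCongr e (e.symm aG) aG (e.apply_symm_apply _)).trans (MulEquiv.subgroupCongr hC)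
  set d := e.symm aG with hd
  set C := Subgroup.centralizer ({d} : Set R)
  have ho : orderOf d = 2 := hgrpR.1.1 d ⟨aG, hcl, rfl⟩
  have hdC : d ∈ C := Subgroup.mem_centralizer_singleton_iff.2 rfl
  have hqs : IsQuasisimple subH := quasisimple_of_double (by
    intro hcomm
    haveI := hcomm
    have h3 : Nat.card (PSU 6 HeSp44.K4 2) = 9196830720 := by
      obtain ⟨hz, ⟨f⟩, -⟩ := hdc
      have := Subgroup.card_eq_card_quotient_mul_card_subgroup (Subgroup.center ↥subH)
      rw [Fi22.card_subH M, hz, Nat.card_congr f.toEquiv] at this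
      omega
    haveI : Finite (PSU 6 HeSp44.K4 2) := Nat.finite_of_card_ne_zero (by rw [h3]; norm_num)
    letI : CommGroup (PSU 6 HeSp44.K4 2) :=
      { (inferInstance : Group (PSU 6 HeSp44.K4 2)) with mul_comm := fun a b => mul_comm' a b }
    have := IsSimpleGroup.prime_card (α := PSU 6 HeSp44.K4 2)
    rw [h3] at this
    norm_num at this) hdc
  have hqC : IsQuasisimple C := by
    refine ⟨⟨?_⟩, ?_⟩
    · haveI := hqs.1
      have h1 : commutator ↥subH = ⊤ := Group.IsPerfect.commutator_eq_top
      have h2 := congrArg (Subgroup.map E.symm.toMonoidHom) h1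
      rw [commutator_def, Subgroup.map_commutator, Subgroup.map_top_of_surjective _ E.symm.surjective,
        ← commutator_def] at h2
      exact h2
    · haveI := hqs.2
      exact (M23Struct19.quotCenterCongr E).isSimpleGroup
  have hzle : (Subgroup.zpowers d).subgroupOf C ≤ Subgroup.center ↥C := by
    intro x hx
    obtain ⟨n, hn⟩ := Subgroup.mem_zpowers_iff.1 (Subgroup.mem_subgroupOf.1 hx)
    refine Subgroup.mem_center_iff.2 fun y => Subtype.ext ?_
    show (y : R) * x = x * y
    rw [← hn]
    exact ((show Commute (y : R) d from Subgroup.mem_centralizer_singleton_iff.1 y.2).zpow_right n).eq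
  have hzeq : (Subgroup.zpowers d).subgroupOf C = Subgroup.center ↥C := by
    refine Subgroup.eq_of_le_of_card_ge hzle ?_
    rw [Nat.card_congr (Subgroup.subgroupOfEquivOfLe (Subgroup.zpowers_le.2 hdC)).toEquiv, Nat.card_zpowers, ho,
      Nat.card_congr (Subgroup.centerCongr E).toEquiv, hdc.1]
  haveI hn : ((Subgroup.zpowers d).subgroupOf C).Normal := by rw [hzeq]; infer_instance
  refine ⟨ho, hqC, ⟨HeSp44.K4, inferInstance, inferInstance, HeSp44.K4.card_eq, hn, ?_⟩, ?_⟩
  · obtain ⟨-, ⟨f⟩, -⟩ := hdc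
    exact ⟨(QuotientGroup.quotientMulEquivOfEq hzeq).trans ((M23Struct19.quotCenterCongr E).trans f)⟩
  · obtain ⟨y, hy⟩ := Set.nonempty_of_ncard_ne_zero (s := M22Struct66.nb Fi22.cls aG)
      (by rw [hF.ncard_nb _ hcl]; norm_num)
    obtain ⟨g, hg⟩ := isConj_iff.1 (show IsConj aG y from hy.1)
    have key : e.symm g * d * (e.symm g)⁻¹ = e.symm y := by rw [hd, ← hg, map_mul, map_mul, map_inv]
    refine ⟨e.symm g, ?_, ?_⟩
    · rw [key, Subgroup.mem_centralizer_singleton_iff, hd, ← map_mul, ← map_mul]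
      exact congrArg e.symm hy.2.2.symm.eq
    · rw [key, hd]
      exact fun h => hy.2.1 (e.symm.injective h)

end Cfsg.Agent.Lib.Fischer3T50
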